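import Cfsg.Agent.Helper28.F22.Order
import Cfsg.Agent.Helper28.F22L.All
import Cfsg.Agent.Helper28.C1687.OrbAll

/-!
# The presented group Fi22 is simple of order 64561751654400 (helper28)

Order: a tower of subgroups with coset enumeration certificates bounds the order from above, a
stabiliser chain in the permutation representation on 3510 points bounds it from below; so this
representation is faithful.  Simplicity: Iwasawa's criterion for the action on the 3510 points, whose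
point stabiliser is maximal (rank 3, suborbits 1 + 693 + 2816) and has the generator `a` in its centre.
-/

set_option autoImplicit false

namespace Cfsg.Agent.Helper28.F22

open Cfsg.Spor

/-- the point stabiliser of the action on 3510 points -/
noncomputable abbrev HΩ : Subgroup Fi22 :=
  (Subgroup.closure ({Cfsg.Spor.Fi22.a, Cfsg.Spor.Fi22.c, Cfsg.Spor.Fi22.d, Cfsg.Spor.Fi22.e, Cfsg.Spor.Fi22.f, Cfsg.Spor.Fi22.g, Cfsg.Spor.Fi22.h, Cfsg.Spor.Fi22.i, (Cfsg.Spor.Fi22.a * Cfsg.Spor.Fi22.b * Cfsg.Spor.Fi22.c * Cfsg.Spor.Fi22.d * Cfsg.Spor.Fi22.e * Cfsg.Spor.Fi22.h) ^ 5} : Set (FreeGroup Cfsg.Spor.Fi22.Gen))).map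
    (PresentedGroup.mk (Cfsg.Spor.coxRelators Cfsg.Spor.Fi22.edges ∪ {r | r ∈ Cfsg.Spor.Fi22.extra}))

theorem card_and_inj : Nat.card Fi22 = 64561751654400 ∧
    Function.Injective Cfsg.Agent.Helper28.C1687.cert.perm := by
  obtain ⟨hfin, hle⟩ := card_le
  have hlb := Cfsg.Agent.Helper28.F22L.lb_chain
  have hpos : 0 < Nat.card (Cfsg.Agent.Helper28.fixSub Cfsg.Agent.Helper28.C1687.cert.perm
      [Cfsg.Agent.Helper28.F22L.ov5 0, Cfsg.Agent.Helper28.F22L.ov4 0,
        Cfsg.Agent.Helper28.F22L.ov3 0, Cfsg.Agent.Helper28.F22L.ov2 0, 0]) := Nat.card_pos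
  have e1 : 3510 * 2816 * 1680 * 243 * 16 = 64561751654400 := by norm_num
  have e2 : 14080 * (3159 * (2016 * (720))) = 64561751654400 := by norm_num
  rw [e1] at hlb
  rw [e2] at hle
  have h1 : 64561751654400 * 1 ≤ Nat.card Fi22 :=
    le_trans (Nat.mul_le_mul_left _ hpos) hlb
  rw [Nat.mul_one] at h1
  refine ⟨le_antisymm hle h1, ?_⟩
  apply Cfsg.Agent.Helper28.C1687.cert.perm_injective
    [Cfsg.Agent.Helper28.F22L.ov5 0, Cfsg.Agent.Helper28.F22L.ov4 0,
      Cfsg.Agent.Helper28.F22L.ov3 0, Cfsg.Agent.Helper28.F22L.ov2 0, 0]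
  have h2 := le_trans hlb hle
  exact Nat.le_of_mul_le_mul_left (by rw [Nat.mul_one]; exact h2) (by norm_num)

theorem card_eq : Nat.card Fi22 = 64561751654400 := card_and_inj.1

theorem finite : Finite Fi22 := card_le.1

theorem nontrivial : Nontrivial Fi22 := by
  haveI := finite
  rw [← Finite.one_lt_card_iff_nontrivial, card_eq]
  norm_num

/-! ### perfect -/

theorem ab_all (x : Fi22.Gen) :
    Abelianization.of (PresentedGroup.of x : Fi22) = Abelianization.of (PresentedGroup.of Fi22.Gen.a : Fi22) := by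
  have hb := cox_ab_edge Fi22.edges Fi22.extra Fi22.Gen.a Fi22.Gen.b (node _) (node _) (by decide)
  have hc := cox_ab_edge Fi22.edges Fi22.extra Fi22.Gen.b Fi22.Gen.c (node _) (node _) (by decide)
  have hd := cox_ab_edge Fi22.edges Fi22.extra Fi22.Gen.c Fi22.Gen.d (node _) (node _) (by decide)
  have he := cox_ab_edge Fi22.edges Fi22.extra Fi22.Gen.d Fi22.Gen.e (node _) (node _) (by decide)
  have hf := cox_ab_edge Fi22.edges Fi22.extra Fi22.Gen.e Fi22.Gen.f (node _) (node _) (by decide)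
  have hg := cox_ab_edge Fi22.edges Fi22.extra Fi22.Gen.f Fi22.Gen.g (node _) (node _) (by decide)
  have hh := cox_ab_edge Fi22.edges Fi22.extra Fi22.Gen.d Fi22.Gen.h (node _) (node _) (by decide)
  have hi := cox_ab_edge Fi22.edges Fi22.extra Fi22.Gen.h Fi22.Gen.i (node _) (node _) (by decide)
  cases x
  · rfl
  · rw [← hb]
  · rw [← hc, ← hb]
  · rw [← hd, ← hc, ← hb]
  · rw [← he, ← hd, ← hc, ← hb]
  · rw [← hf, ← he, ← hd, ← hc, ← hb]
  · rw [← hg, ← hf, ← he, ← hd, ← hc, ← hb]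
  · rw [← hh, ← hd, ← hc, ← hb]
  · rw [← hi, ← hh, ← hd, ← hc, ← hb]

theorem ab_one (x : Fi22.Gen) : Abelianization.of (PresentedGroup.of x : Fi22) = 1 := by
  rw [ab_all x]
  have h2 := cox_ab_sq Fi22.edges Fi22.extra Fi22.Gen.a (node _)
  have hrel : (PresentedGroup.mk (coxRelators Fi22.edges ∪ {r | r ∈ Fi22.extra})
      ((Fi22.a * Fi22.b * Fi22.c * Fi22.d * Fi22.e * Fi22.f * Fi22.h) ^ 9) : Fi22) = 1 :=
    PresentedGroup.one_of_mem (Or.inr (by simp [Fi22.extra]))
  have h63 := congrArg (Abelianization.of : Fi22 →* Abelianization Fi22) hrel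
  rw [map_pow, map_mul, map_mul, map_mul, map_mul, map_mul, map_mul, map_one] at h63
  have h63' : (Abelianization.of (PresentedGroup.of Fi22.Gen.a : Fi22) *
      Abelianization.of (PresentedGroup.of Fi22.Gen.b : Fi22) *
      Abelianization.of (PresentedGroup.of Fi22.Gen.c : Fi22) *
      Abelianization.of (PresentedGroup.of Fi22.Gen.d : Fi22) *
      Abelianization.of (PresentedGroup.of Fi22.Gen.e : Fi22) *
      Abelianization.of (PresentedGroup.of Fi22.Gen.f : Fi22) *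
      Abelianization.of (PresentedGroup.of Fi22.Gen.h : Fi22)) ^ 9 = 1 := h63
  rw [ab_all Fi22.Gen.b, ab_all Fi22.Gen.c, ab_all Fi22.Gen.d, ab_all Fi22.Gen.e, ab_all Fi22.Gen.f,
    ab_all Fi22.Gen.h] at h63'
  clear h63
  generalize Abelianization.of (PresentedGroup.of Fi22.Gen.a : Fi22) = v at *
  have h2' : v ^ 2 = 1 := by rw [pow_two]; exact h2
  calc v = (v ^ 2) ^ 31 * v := by rw [h2', one_pow, one_mul]
    _ = (v * v * v * v * v * v * v) ^ 9 := by
      rw [← pow_mul, ← pow_succ]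
      have : v * v * v * v * v * v * v = v ^ 7 := by
        simp only [pow_succ, pow_zero, one_mul]
      rw [this, ← pow_mul]
    _ = 1 := h63'

theorem perfect : commutator Fi22 = ⊤ :=
  commutator_eq_top_of_gens _ ab_one

/-! ### the normal closure of a generator -/

theorem normalClosure_a : Subgroup.normalClosure ({PresentedGroup.of Fi22.Gen.a} : Set Fi22) = ⊤ := by
  have hN : (Subgroup.normalClosure ({PresentedGroup.of Fi22.Gen.a} : Set Fi22)).Normal :=
    Subgroup.normalClosure_normal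
  have ha : (PresentedGroup.of Fi22.Gen.a : Fi22) ∈
      Subgroup.normalClosure ({PresentedGroup.of Fi22.Gen.a} : Set Fi22) :=
    Subgroup.subset_normalClosure (Set.mem_singleton _)
  have hb := cox_normal_edge Fi22.edges Fi22.extra _ hN Fi22.Gen.a Fi22.Gen.b (node _) (node _) (by decide) ha
  have hc := cox_normal_edge Fi22.edges Fi22.extra _ hN Fi22.Gen.b Fi22.Gen.c (node _) (node _) (by decide) hb
  have hd := cox_normal_edge Fi22.edges Fi22.extra _ hN Fi22.Gen.c Fi22.Gen.d (node _) (node _) (by decide) hc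
  have he := cox_normal_edge Fi22.edges Fi22.extra _ hN Fi22.Gen.d Fi22.Gen.e (node _) (node _) (by decide) hd
  have hf := cox_normal_edge Fi22.edges Fi22.extra _ hN Fi22.Gen.e Fi22.Gen.f (node _) (node _) (by decide) he
  have hg := cox_normal_edge Fi22.edges Fi22.extra _ hN Fi22.Gen.f Fi22.Gen.g (node _) (node _) (by decide) hf
  have hh := cox_normal_edge Fi22.edges Fi22.extra _ hN Fi22.Gen.d Fi22.Gen.h (node _) (node _) (by decide) hd
  have hi := cox_normal_edge Fi22.edges Fi22.extra _ hN Fi22.Gen.h Fi22.Gen.i (node _) (node _) (by decide) hh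
  rw [eq_top_iff, ← PresentedGroup.closure_range_of]
  apply (Subgroup.closure_le _).mpr
  rintro _ ⟨x, rfl⟩
  cases x
  · exact ha
  · exact hb
  · exact hc
  · exact hd
  · exact he
  · exact hf
  · exact hg
  · exact hh
  · exact hi

/-! ### the generator `a` is central in the point stabiliser -/

set_option maxRecDepth 100000 in
theorem word_aw_l : Cfsg.Agent.Helper28.WordOf Cfsg.Agent.Helper28.C1687.gen
    (Cfsg.Spor.Fi22.a * (Cfsg.Spor.Fi22.a * Cfsg.Spor.Fi22.b * Cfsg.Spor.Fi22.c * Cfsg.Spor.Fi22.d * Cfsg.Spor.Fi22.e * Cfsg.Spor.Fi22.h) ^ 5)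
    [0, 0, 1, 2, 3, 4, 7, 0, 1, 2, 3, 4, 7, 0, 1, 2, 3, 4, 7, 0, 1, 2, 3, 4, 7, 0, 1, 2, 3, 4, 7] := by
  intro K _ v hv
  simp only [map_mul, map_pow, map_inv, FreeGroup.lift_apply_of, mul_inv_rev, inv_pow,
    Cfsg.Agent.Helper28.inv_of_sq _ (hv _), List.map_cons, List.map_nil, List.prod_cons, List.prod_nil,
    Cfsg.Agent.Helper28.C1687.gen, pow_succ, pow_zero, one_mul, mul_one, mul_assoc]

set_option maxRecDepth 100000 in
theorem word_aw_r : Cfsg.Agent.Helper28.WordOf Cfsg.Agent.Helper28.C1687.gen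
    ((Cfsg.Spor.Fi22.a * Cfsg.Spor.Fi22.b * Cfsg.Spor.Fi22.c * Cfsg.Spor.Fi22.d * Cfsg.Spor.Fi22.e * Cfsg.Spor.Fi22.h) ^ 5 * Cfsg.Spor.Fi22.a)
    [0, 1, 2, 3, 4, 7, 0, 1, 2, 3, 4, 7, 0, 1, 2, 3, 4, 7, 0, 1, 2, 3, 4, 7, 0, 1, 2, 3, 4, 7, 0] := by
  intro K _ v hv
  simp only [map_mul, map_pow, map_inv, FreeGroup.lift_apply_of, mul_inv_rev, inv_pow,
    Cfsg.Agent.Helper28.inv_of_sq _ (hv _), List.map_cons, List.map_nil, List.prod_cons, List.prod_nil,
    Cfsg.Agent.Helper28.C1687.gen, pow_succ, pow_zero, one_mul, mul_one, mul_assoc]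

theorem comm_w5 : (PresentedGroup.of Fi22.Gen.a : Fi22) *
    PresentedGroup.mk (coxRelators Fi22.edges ∪ {r | r ∈ Fi22.extra})
      ((Fi22.a * Fi22.b * Fi22.c * Fi22.d * Fi22.e * Fi22.h) ^ 5) =
    PresentedGroup.mk (coxRelators Fi22.edges ∪ {r | r ∈ Fi22.extra})
      ((Fi22.a * Fi22.b * Fi22.c * Fi22.d * Fi22.e * Fi22.h) ^ 5) * PresentedGroup.of Fi22.Gen.a := by
  have h := Cfsg.Agent.Helper28.C1687.cert.word_eq card_and_inj.2
    Cfsg.Agent.Helper28.F22L.aw_l Cfsg.Agent.Helper28.F22L.aw_r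
    Cfsg.Agent.Helper28.F22L.eq_aw_let.1 Cfsg.Agent.Helper28.F22L.eq_aw_let.2
    Cfsg.Agent.Helper28.F22L.eq_aw_all
  have h1 := Cfsg.Agent.Helper28.C1687.cert.wordVal _ _ word_aw_l Cfsg.Agent.Helper28.F22L.eq_aw_let.1
  have h2 := Cfsg.Agent.Helper28.C1687.cert.wordVal _ _ word_aw_r Cfsg.Agent.Helper28.F22L.eq_aw_let.2
  have h3 : PresentedGroup.mk (coxRelators Fi22.edges ∪ {r | r ∈ Fi22.extra})
      (Fi22.a * (Fi22.a * Fi22.b * Fi22.c * Fi22.d * Fi22.e * Fi22.h) ^ 5) =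
      PresentedGroup.mk (coxRelators Fi22.edges ∪ {r | r ∈ Fi22.extra})
      ((Fi22.a * Fi22.b * Fi22.c * Fi22.d * Fi22.e * Fi22.h) ^ 5 * Fi22.a) := by
    rw [← h1, ← h2]; exact h
  rw [map_mul, map_mul] at h3
  exact h3

theorem a_mem : (PresentedGroup.of Fi22.Gen.a : Fi22) ∈ HΩ :=
  Subgroup.mem_map_of_mem _ (Subgroup.subset_closure (by simp))

theorem a_central : ∀ h ∈ HΩ, h * (PresentedGroup.of Fi22.Gen.a : Fi22) = PresentedGroup.of Fi22.Gen.a * h := by
  have hle : HΩ ≤ Subgroup.centralizer ({PresentedGroup.of Fi22.Gen.a} : Set Fi22) := by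
    unfold HΩ
    rw [MonoidHom.map_closure]
    apply (Subgroup.closure_le _).mpr
    rintro _ ⟨s, hs, rfl⟩
    rw [SetLike.mem_coe, Subgroup.mem_centralizer_iff]
    intro t ht
    rw [Set.mem_singleton_iff.mp ht]
    simp only [Set.mem_insert_iff, Set.mem_singleton_iff] at hs
    rcases hs with rfl | rfl | rfl | rfl | rfl | rfl | rfl | rfl | rfl
    · rfl
    · exact cox_comm Fi22.edges Fi22.extra Fi22.Gen.a Fi22.Gen.c (node _) (node _) (by decide)
    · exact cox_comm Fi22.edges Fi22.extra Fi22.Gen.a Fi22.Gen.d (node _) (node _) (by decide)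
    · exact cox_comm Fi22.edges Fi22.extra Fi22.Gen.a Fi22.Gen.e (node _) (node _) (by decide)
    · exact cox_comm Fi22.edges Fi22.extra Fi22.Gen.a Fi22.Gen.f (node _) (node _) (by decide)
    · exact cox_comm Fi22.edges Fi22.extra Fi22.Gen.a Fi22.Gen.g (node _) (node _) (by decide)
    · exact cox_comm Fi22.edges Fi22.extra Fi22.Gen.a Fi22.Gen.h (node _) (node _) (by decide)
    · exact cox_comm Fi22.edges Fi22.extra Fi22.Gen.a Fi22.Gen.i (node _) (node _) (by decide)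
    · exact comm_w5
  intro h hh
  have := Subgroup.mem_centralizer_iff.mp (hle hh) _ (Set.mem_singleton _)
  exact this.symm

/-! ### maximality of the point stabiliser -/

theorem maximal (L : Subgroup Fi22) (hL : HΩ ≤ L) : L = HΩ ∨ L = ⊤ := by
  obtain ⟨e, he, _⟩ := Cfsg.Agent.Helper28.C1687.cert.exists_equiv
  have o1 := Cfsg.Agent.Helper28.C1687.cert.orbit_cert e he 693 Cfsg.Agent.Helper28.C1687.ov1 Cfsg.Agent.Helper28.C1687.op1 Cfsg.Agent.Helper28.C1687.otp1 Cfsg.Agent.Helper28.C1687.otw1 (by decide) Cfsg.Agent.Helper28.C1687.orb1_all Cfsg.Agent.Helper28.C1687.ov1_lt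
  have o2 := Cfsg.Agent.Helper28.C1687.cert.orbit_cert e he 2816 Cfsg.Agent.Helper28.C1687.ov2 Cfsg.Agent.Helper28.C1687.op2 Cfsg.Agent.Helper28.C1687.otp2 Cfsg.Agent.Helper28.C1687.otw2 (by decide) Cfsg.Agent.Helper28.C1687.orb2_all Cfsg.Agent.Helper28.C1687.ov2_lt
  have hidx : HΩ.index = 3510 := Cfsg.Agent.Helper28.C1687.cert.index_eq
  have h1 := o1.1
  have h2 := o2.1
  refine maximal_of_orbits HΩ
    ![e.symm ⟨Cfsg.Agent.Helper28.C1687.ov1 0, Cfsg.Agent.Helper28.C1687.ov1_lt⟩,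
      e.symm ⟨Cfsg.Agent.Helper28.C1687.ov2 0, Cfsg.Agent.Helper28.C1687.ov2_lt⟩]
    ![693, 2816] ?_ ?_ ?_ ?_ ?_ L hL
  · intro i
    fin_cases i
    · exact h1
    · exact h2
  · intro i j hij
    fin_cases i <;> fin_cases j
    · exact absurd rfl hij
    · exact orbit_disjoint_of_ncard_ne _ _ (by
        show (MulAction.orbit _ (e.symm ⟨Cfsg.Agent.Helper28.C1687.ov1 0, Cfsg.Agent.Helper28.C1687.ov1_lt⟩)).ncard ≠
          (MulAction.orbit _ (e.symm ⟨Cfsg.Agent.Helper28.C1687.ov2 0, Cfsg.Agent.Helper28.C1687.ov2_lt⟩)).ncard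
        rw [h1, h2]; norm_num)
    · exact orbit_disjoint_of_ncard_ne _ _ (by
        show (MulAction.orbit _ (e.symm ⟨Cfsg.Agent.Helper28.C1687.ov2 0, Cfsg.Agent.Helper28.C1687.ov2_lt⟩)).ncard ≠
          (MulAction.orbit _ (e.symm ⟨Cfsg.Agent.Helper28.C1687.ov1 0, Cfsg.Agent.Helper28.C1687.ov1_lt⟩)).ncard
        rw [h1, h2]; norm_num)
    · exact absurd rfl hij
  · intro i
    fin_cases i
    · exact mk_one_notMem_orbit _ _ (by
        show 1 < (MulAction.orbit _ (e.symm ⟨Cfsg.Agent.Helper28.C1687.ov1 0, Cfsg.Agent.Helper28.C1687.ov1_lt⟩)).ncard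
        rw [h1]; norm_num)
    · exact mk_one_notMem_orbit _ _ (by
        show 1 < (MulAction.orbit _ (e.symm ⟨Cfsg.Agent.Helper28.C1687.ov2 0, Cfsg.Agent.Helper28.C1687.ov2_lt⟩)).ncard
        rw [h2]; norm_num)
  · rw [hidx, Fin.sum_univ_two]
    rfl
  · rw [hidx]
    decide

/-! ### simplicity -/

theorem core_trivial (N : Subgroup Fi22) (hN : N.Normal) (hle : N ≤ HΩ) : N = ⊥ := by
  have h1 := Cfsg.Agent.Helper28.C1687.cert.normal_le_ker N hN hle
  rw [(MonoidHom.ker_eq_bot_iff _).mpr card_and_inj.2] at h1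
  exact le_bot_iff.mp h1

theorem simple : IsSimpleGroup Fi22 := by
  have := nontrivial
  refine iwasawa_simple HΩ (Subgroup.zpowers (PresentedGroup.of Fi22.Gen.a : Fi22)) maximal ?_
    (Subgroup.zpowers_isMulCommutative _) ?_ perfect core_trivial
  · intro h hh x hx
    obtain ⟨k, rfl⟩ := Subgroup.mem_zpowers_iff.mp hx
    have e : h * (PresentedGroup.of Fi22.Gen.a : Fi22) * h⁻¹ = PresentedGroup.of Fi22.Gen.a := by
      rw [a_central h hh, mul_inv_cancel_right]
    rw [← conj_zpow, e]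
    exact Subgroup.zpow_mem_zpowers _ _
  · rw [eq_top_iff, ← normalClosure_a]
    apply Subgroup.normalClosure_mono
    intro y hy
    rw [Set.mem_singleton_iff.mp hy]
    exact Subgroup.mem_zpowers _

end Cfsg.Agent.Helper28.F22
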